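import Mathlib.RingTheory.Ideal.KrullsHeightTheorem
import Mathlib.RingTheory.DiscreteValuationRing.Basic
import Mathlib.RingTheory.ZariskisMainTheorem
import Mathlib.RingTheory.Flat.Stability
import Mathlib.RingTheory.Flat.FaithfullyFlat.Algebra
import Mathlib.RingTheory.RingHom.FiniteType

/-!
# Cutting a universally open morphism at a point closed in its fibre

If `Spec B → Spec A` is universally open, `P` is maximal in its fibre and `g` is a system of parameters of the
fibre at `P`, then after base change to a discrete valuation ring every point of `V(g)` over the closed point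
above `P` is the specialisation of a point of `V(g)` over the generic point.
-/

set_option autoImplicit false
set_option linter.style.haveILetI false
set_option synthInstance.maxHeartbeats 200000
set_option backward.isDefEq.respectTransparency false
set_option backward.isDefEq.respectTransparency.types false

universe u

open TensorProduct PrimeSpectrum

namespace Groth.Agent.H15Site.UnivOpen

/-- Open maps to local schemes: a point over the closed point generizes to a point over the generic point. -/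
theorem exists_minimal_notMem {B : Type u} [CommRing B] [IsNoetherianRing B] {O : Type u} [CommRing O]
    [IsLocalRing O] [Algebra O B] (hopen : IsOpenMap (comap (algebraMap O B))) (t : O)
    (ht : ¬ IsNilpotent t) (Q₀ : Ideal B) [Q₀.IsPrime]
    (hQ₀ : Q₀.comap (algebraMap O B) = IsLocalRing.maximalIdeal O) :
    ∃ P₀ : Ideal B, P₀.IsPrime ∧ P₀ ≤ Q₀ ∧ algebraMap O B t ∉ P₀ := by
  classical
  by_contra hcon
  push Not at hcon
  let M := (minimalPrimes.finite_of_isNoetherianRing (R := B)).toFinset.filter fun p => ¬ p ≤ Q₀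
  have hex : ∀ p ∈ M, ∃ b ∈ p, b ∉ Q₀ := fun p hp => Set.not_subset.1 (Finset.mem_filter.1 hp).2
  choose b hb hbQ using hex
  let h := ∏ p ∈ M.attach, b p.1 p.2
  have hhQ : h ∉ Q₀ := fun hh => by
    obtain ⟨p, -, hp⟩ := (Ideal.IsPrime.prod_mem_iff (p := Q₀)).1 hh
    exact hbQ p.1 p.2 hp
  let U : Set (PrimeSpectrum O) := comap (algebraMap O B) '' (basicOpen h : Set (PrimeSpectrum B))
  have hU : IsOpen U := hopen _ (basicOpen h).2
  have hcl : IsLocalRing.closedPoint O ∈ U :=
    ⟨⟨Q₀, inferInstance⟩, hhQ, PrimeSpectrum.ext hQ₀⟩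
  obtain ⟨r, hr, htr⟩ : ∃ r : Ideal O, r.IsPrime ∧ t ∉ r := by
    by_contra hc
    push Not at hc
    exact ht (nilpotent_iff_mem_prime.2 hc)
  have hrU : (⟨r, hr⟩ : PrimeSpectrum O) ∈ U := by
    refine (IsLocalRing.specializes_closedPoint _).mem_open hU hcl
  obtain ⟨g, hgh, hgr⟩ := hrU
  have hg : h ∉ g.asIdeal ∧ algebraMap O B t ∉ g.asIdeal :=
    ⟨hgh, fun ht' => htr (by rw [← show g.asIdeal.comap (algebraMap O B) = r from congrArg PrimeSpectrum.asIdeal hgr]; exact ht')⟩
  obtain ⟨m, hm, hmg⟩ := Ideal.exists_minimalPrimes_le (I := (⊥ : Ideal B)) (J := g.asIdeal) bot_le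
  have hm' : m ∈ minimalPrimes B := hm
  haveI := hm'.1.1
  by_cases hmQ : m ≤ Q₀
  · exact hg.2 (hmg (hcon m inferInstance hmQ))
  · have hmM : m ∈ M := Finset.mem_filter.2 ⟨(Set.Finite.mem_toFinset _).2 hm', hmQ⟩
    refine hg.1 (hmg ?_)
    exact Ideal.prod_mem m (Finset.mem_attach M ⟨m, hmM⟩) (hb m hmM)

/-- Above a strict chain in the closed fibre there is a chain longer by one step: so `d` equations cannot cut
out a point isolated in the closed fibre without meeting the generic fibre. -/
theorem exists_prime_over_generic {O : Type u} [CommRing O] [IsDomain O] [IsDiscreteValuationRing O]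
    {B : Type u} [CommRing B] [IsNoetherianRing B] [Algebra O B]
    (hopen : IsOpenMap (comap (algebraMap O B))) (P : Ideal B) [P.IsPrime] (s : Finset B) (hs : ↑s ⊆ (P : Set B))
    (l : LTSeries (PrimeSpectrum B)) (hl : l.last.asIdeal = P)
    (hlc : l.head.asIdeal.comap (algebraMap O B) = IsLocalRing.maximalIdeal O) (hd : s.card ≤ l.length)
    (hqf : ∀ Q : Ideal B, Q.IsPrime → ↑s ⊆ (Q : Set B) → Q ≤ P →
      Q.comap (algebraMap O B) = IsLocalRing.maximalIdeal O → Q = P) :
    ∃ Q : Ideal B, Q.IsPrime ∧ ↑s ⊆ (Q : Set B) ∧ Q ≤ P ∧ Q.comap (algebraMap O B) = ⊥ := by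
  classical
  obtain ⟨t, ht⟩ := IsDiscreteValuationRing.exists_irreducible O
  obtain ⟨P₀, hP₀, hle, htP₀⟩ := exists_minimal_notMem hopen t
    (fun h => ht.ne_zero h.eq_zero) l.head.asIdeal hlc
  haveI := hP₀
  have hmax := ht.maximalIdeal_eq
  have hgen : ∀ Q : Ideal B, Q.IsPrime → algebraMap O B t ∉ Q → Q.comap (algebraMap O B) = ⊥ := by
    intro Q hQ htQ
    by_contra hne
    haveI := hQ
    have hm := Ring.DimensionLEOne.maximalOfPrime (R := O) hne inferInstance
    refine htQ (Ideal.mem_comap.1 ?_)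
    rw [IsLocalRing.eq_maximalIdeal hm, hmax]
    exact Ideal.mem_span_singleton_self t
  by_contra hcon
  push Not at hcon
  let mk := Ideal.Quotient.mk P₀
  have hPle : P₀ ≤ P := hle.trans (hl ▸ l.head_le_last)
  have hP₀' : ∀ i, P₀ ≤ (l i).asIdeal := fun i => hle.trans (l.monotone (Fin.zero_le i))
  have hker : RingHom.ker mk = P₀ := Ideal.mk_ker
  haveI hPp : (P.map mk).IsPrime := Ideal.isPrime_map_quotientMk_of_isPrime hPle
  have hmin : P.map mk ∈ (Ideal.span (↑(s.image mk) : Set (B ⧸ P₀))).minimalPrimes := by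
    refine ⟨⟨hPp, Ideal.span_le.2 ?_⟩, fun Q' ⟨hQ', hsQ'⟩ hQ'le => ?_⟩
    · intro x hx
      rw [Finset.coe_image] at hx
      obtain ⟨b, hb, rfl⟩ := hx
      exact Ideal.mem_map_of_mem _ (hs hb)
    haveI := hQ'
    have hQP : Q'.comap mk ≤ P := by
      refine (Ideal.comap_mono hQ'le).trans ?_
      rw [Ideal.comap_map_of_surjective mk Ideal.Quotient.mk_surjective, ← RingHom.ker_eq_comap_bot, hker]
      exact sup_le le_rfl hPle
    have hsQ : ↑s ⊆ (Q'.comap mk : Set B) := fun b hb =>
      hsQ' (Ideal.subset_span (Finset.mem_image_of_mem mk hb))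
    have hne := hcon (Q'.comap mk) inferInstance hsQ hQP
    have htQ : algebraMap O B t ∈ Q'.comap mk := by
      by_contra h
      exact hne (hgen _ inferInstance h)
    have hc : (Q'.comap mk).comap (algebraMap O B) = IsLocalRing.maximalIdeal O := by
      refine le_antisymm (IsLocalRing.le_maximalIdeal (Ideal.IsPrime.ne_top inferInstance)) ?_
      rw [hmax, Ideal.span_le, Set.singleton_subset_iff]
      exact htQ
    rw [← hqf _ inferInstance hsQ hQP hc, Ideal.map_comap_of_surjective mk Ideal.Quotient.mk_surjective]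
  have h1 := Ideal.height_le_card_of_mem_minimalPrimes_span_finset hmin
  let f : Fin (l.length + 2) → PrimeSpectrum (B ⧸ P₀) := Fin.cases ⟨⊥, Ideal.isPrime_bot⟩
    fun i => ⟨(l i).asIdeal.map mk, Ideal.isPrime_map_quotientMk_of_isPrime (hP₀' i)⟩
  have hf0 : P₀ < l.head.asIdeal := lt_of_le_of_ne hle fun h => htP₀ (by
    rw [h, ← Ideal.mem_comap, hlc, hmax]
    exact Ideal.mem_span_singleton_self t)
  have hinj : ∀ I J : Ideal B, P₀ ≤ I → P₀ ≤ J → I < J → I.map mk < J.map mk := by
    intro I J hI hJ hIJ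
    refine lt_of_le_of_ne (Ideal.map_mono hIJ.le) fun h => hIJ.ne ?_
    have h' := congrArg (Ideal.comap mk) h
    rwa [Ideal.comap_map_of_surjective mk Ideal.Quotient.mk_surjective,
      Ideal.comap_map_of_surjective mk Ideal.Quotient.mk_surjective, ← RingHom.ker_eq_comap_bot, hker,
      sup_eq_left.2 hI, sup_eq_left.2 hJ] at h'
  let l' : LTSeries (PrimeSpectrum (B ⧸ P₀)) :=
    ⟨l.length + 1, f, fun i => by
      cases i using Fin.cases with
      | zero =>
        show (⊥ : Ideal (B ⧸ P₀)) < (l 0).asIdeal.map mk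
        have := hinj P₀ _ le_rfl (hP₀' 0) hf0
        rwa [Ideal.map_quotient_self] at this
      | succ i =>
        show (l i.castSucc).asIdeal.map mk < (l i.succ).asIdeal.map mk
        exact hinj _ _ (hP₀' _) (hP₀' _) (l.step i)⟩
  have h2 : ((l.length + 1 : ℕ) : ℕ∞) ≤ (P.map mk).height := by
    rw [show (P.map mk).height = Order.height (⟨P.map mk, hPp⟩ : PrimeSpectrum (B ⧸ P₀)) from PrimeSpectrum.height_eq_orderHeight ⟨P.map mk, hPp⟩]
    refine (Order.length_le_height (p := l') ?_)
    show (l (Fin.last _)).asIdeal.map mk ≤ P.map mk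
    rw [show (l (Fin.last _)).asIdeal = P from hl]
  have h3 : ((l.length + 1 : ℕ) : ℕ∞) ≤ (s.card : ℕ∞) :=
    h2.trans (h1.trans (by exact_mod_cast Finset.card_image_le))
  have h4 : l.length + 1 ≤ s.card := by exact_mod_cast h3
  omega

section Fibre

variable (A B : Type u) [CommRing A] [CommRing B] [Algebra A B] [Algebra.FiniteType A B]

/-- `d` equations cutting `P` out of its fibre, and a witness that the fibre has dimension at least `d` at `P`. -/
theorem exists_parameters (P : Ideal B) [P.IsPrime]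
    (hP : ∀ Q : Ideal B, Q.IsPrime → Q.comap (algebraMap A B) = P.comap (algebraMap A B) → P ≤ Q → Q = P) :
    ∃ (s : Finset B) (b : B), ↑s ⊆ (P : Set B) ∧ b ∉ P ∧
      (∀ Q : Ideal B, Q.IsPrime → Q.comap (algebraMap A B) = P.comap (algebraMap A B) → ↑s ⊆ (Q : Set B) →
        b ∉ Q → Q = P) ∧
      ∀ (R : PrimeSpectrum ((P.comap (algebraMap A B)).Fiber B)),
        R.asIdeal.comap (Algebra.TensorProduct.includeRight : B →ₐ[A] _) = P → (s.card : ℕ∞) ≤ R.asIdeal.height := by
  classical
  let q := P.comap (algebraMap A B)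
  let C := q.Fiber B
  let inc : B →ₐ[A] C := Algebra.TensorProduct.includeRight
  haveI : IsNoetherianRing C := Algebra.FiniteType.isNoetherianRing q.ResidueField _
  let e := PrimeSpectrum.primesOverOrderIsoFiber A B q
  let R₀ := e ⟨P, inferInstance, ⟨rfl⟩⟩
  have he : ∀ R : PrimeSpectrum C, R.asIdeal.comap inc = ((e.symm R : q.primesOver B) : Ideal B) := fun R =>
    (PrimeSpectrum.coe_primesOverOrderIsoFiber_symm_apply q R).symm
  have hR₀ : R₀.asIdeal.comap inc = P := by
    rw [he, e.symm_apply_apply]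
  have huniq : ∀ R : PrimeSpectrum C, R.asIdeal.comap inc = P → R = R₀ := fun R hR => by
    refine e.symm.injective (Subtype.ext ?_)
    rw [← he, hR, e.symm_apply_apply]
  obtain ⟨T, hT, hcard⟩ := R₀.asIdeal.exists_finset_card_eq_height_of_isNoetherianRing
  have hclear : ∀ c : C, ∃ x : B, ∀ R : PrimeSpectrum C, c ∈ R.asIdeal ↔ x ∈ R.asIdeal.comap inc := fun c => by
    obtain ⟨r, hr, x, hx⟩ := Ideal.Fiber.exists_smul_eq_one_tmul q c
    refine ⟨x, fun R => ?_⟩
    have hu : IsUnit (algebraMap A C r) := by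
      rw [IsScalarTower.algebraMap_apply A q.ResidueField C]
      refine IsUnit.map _ (isUnit_iff_ne_zero.2 ?_)
      rwa [ne_eq, Ideal.algebraMap_residueField_eq_zero]
    rw [Ideal.mem_comap, show inc x = algebraMap A C r * c from (Algebra.smul_def r c ▸ hx).symm,
      Ideal.mul_unit_mem_iff_mem _ hu |>.symm, mul_comm]
  choose x hx using hclear
  obtain ⟨c, hc, hc'⟩ : ∃ c : C, c ∉ R₀.asIdeal ∧
      ∀ M ∈ (Ideal.span (T : Set C)).minimalPrimes, M ≠ R₀.asIdeal → c ∈ M := by
    have hfin := Ideal.finite_minimalPrimes_of_isNoetherianRing C (Ideal.span (T : Set C))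
    let N := hfin.toFinset.erase R₀.asIdeal
    have hex : ∀ M ∈ N, ∃ a ∈ M, a ∉ R₀.asIdeal := fun M hM => by
      have hMm := hfin.mem_toFinset.1 (Finset.mem_of_mem_erase hM)
      refine Set.not_subset.1 fun hle => Finset.ne_of_mem_erase hM ?_
      exact le_antisymm hle (hT.2 hMm.1 hle)
    choose a ha haR using hex
    refine ⟨∏ M ∈ N.attach, a M.1 M.2, fun h => ?_, fun M hM hne => ?_⟩
    · obtain ⟨M, -, hM⟩ := (Ideal.IsPrime.prod_mem_iff (p := R₀.asIdeal)).1 h
      exact haR M.1 M.2 hM
    · have hMN : M ∈ N := Finset.mem_erase.2 ⟨hne, hfin.mem_toFinset.2 hM⟩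
      exact Ideal.prod_mem M (Finset.mem_attach N ⟨M, hMN⟩) (ha M hMN)
  refine ⟨T.image x, x c, ?_, ?_, fun Q hQ hQq hsQ hbQ => ?_, fun R hR => ?_⟩
  · intro b hb
    rw [Finset.coe_image] at hb
    obtain ⟨t, ht, rfl⟩ := hb
    rw [← hR₀]
    exact (hx t R₀).1 (hT.1.2 (Ideal.subset_span ht))
  · rw [← hR₀]
    exact fun h => hc ((hx c R₀).2 h)
  · haveI := hQ
    let R := e ⟨Q, inferInstance, ⟨hQq.symm⟩⟩
    have hRQ : R.asIdeal.comap inc = Q := by rw [he, e.symm_apply_apply]
    have hTR : Ideal.span (T : Set C) ≤ R.asIdeal := Ideal.span_le.2 fun t ht =>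
      (hx t R).2 (hRQ.symm ▸ hsQ (Finset.mem_image_of_mem x ht))
    obtain ⟨M, hM, hMR⟩ := Ideal.exists_minimalPrimes_le hTR
    have hME : M = R₀.asIdeal := by
      by_contra hne
      exact hbQ (hRQ ▸ (hx c R).1 (hMR (hc' M hM hne)))
    exact hP Q hQ hQq (hR₀ ▸ hRQ ▸ Ideal.comap_mono (hME ▸ hMR))
  · rw [huniq R hR, ← hcard]
    exact_mod_cast Finset.card_image_le

open IsLocalRing in
/-- A chain in the closed fibre of a base change to a local ring, as long as the height in the original fibre. -/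
theorem exists_chain [IsNoetherianRing A] {O : Type u} [CommRing O] [IsLocalRing O] [Algebra A O]
    (q : Ideal A) [q.IsPrime] (hq : (maximalIdeal O).comap (algebraMap A O) = q)
    (P : Ideal (O ⊗[A] B)) [P.IsPrime] (hPc : P.comap (algebraMap O (O ⊗[A] B)) = maximalIdeal O) :
    ∃ (R : PrimeSpectrum (q.Fiber B)) (l : LTSeries (PrimeSpectrum (O ⊗[A] B))),
      R.asIdeal.comap (Algebra.TensorProduct.includeRight : B →ₐ[A] _) =
          P.comap (Algebra.TensorProduct.includeRight : B →ₐ[A] O ⊗[A] B) ∧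
        l.last.asIdeal = P ∧ l.head.asIdeal.comap (algebraMap O (O ⊗[A] B)) = maximalIdeal O ∧
        R.asIdeal.height ≤ l.length := by
  classical
  let v : q.ResidueField →ₐ[A] (ResidueField O) := Ideal.ResidueField.liftₐ q (Algebra.ofId A (ResidueField O))
    (fun a ha => by
      rw [RingHom.mem_ker]
      show algebraMap A (ResidueField O) a = 0
      rw [IsScalarTower.algebraMap_apply A O (ResidueField O), ResidueField.algebraMap_eq, residue_eq_zero_iff]
      rw [← hq] at ha
      exact ha)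
    (fun a ha => by
      show IsUnit (algebraMap A (ResidueField O) a)
      refine isUnit_iff_ne_zero.2 fun h => ha ?_
      rw [IsScalarTower.algebraMap_apply A O (ResidueField O), ResidueField.algebraMap_eq, residue_eq_zero_iff] at h
      rw [← hq]
      exact h)
  letI : Algebra q.ResidueField (ResidueField O) := v.toRingHom.toAlgebra
  haveI : IsScalarTower A q.ResidueField (ResidueField O) := IsScalarTower.of_algebraMap_eq fun a => (v.commutes a).symm
  let κP := P.ResidueField
  let u₁ : O →+* κP := (algebraMap (O ⊗[A] B) κP).comp (algebraMap O (O ⊗[A] B))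
  have hu₁ : ∀ o ∈ maximalIdeal O, u₁ o = 0 := fun o ho => by
    show algebraMap (O ⊗[A] B) κP (algebraMap O (O ⊗[A] B) o) = 0
    rw [Ideal.algebraMap_residueField_eq_zero, ← Ideal.mem_comap, hPc]
    exact ho
  let u₂ : (ResidueField O) →+* κP := Ideal.Quotient.lift _ u₁ hu₁
  letI : Algebra q.ResidueField κP := (u₂.comp v.toRingHom).toAlgebra
  haveI : IsScalarTower A q.ResidueField κP := IsScalarTower.of_algebraMap_eq fun a => by
    show algebraMap A κP a = u₂ (v (algebraMap A q.ResidueField a))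
    rw [v.commutes, IsScalarTower.algebraMap_apply A O (ResidueField O), ResidueField.algebraMap_eq]
    show _ = algebraMap (O ⊗[A] B) κP (algebraMap O (O ⊗[A] B) (algebraMap A O a))
    rw [← IsScalarTower.algebraMap_apply A O (O ⊗[A] B), ← IsScalarTower.algebraMap_apply A (O ⊗[A] B) κP]
  let ρ : (q.Fiber B) →ₐ[q.ResidueField] κP := Algebra.TensorProduct.lift (Algebra.ofId q.ResidueField κP)
    ((IsScalarTower.toAlgHom A (O ⊗[A] B) κP).comp Algebra.TensorProduct.includeRight) fun _ _ => .all _ _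
  let ρ' : (q.Fiber B) ⊗[q.ResidueField] (ResidueField O) →ₐ[q.ResidueField] κP := Algebra.TensorProduct.lift ρ ⟨u₂, fun _ => rfl⟩ fun _ _ => .all _ _
  let ι : B →ₐ[A] (q.Fiber B) ⊗[q.ResidueField] (ResidueField O) :=
    ((Algebra.TensorProduct.includeLeft : (q.Fiber B) →ₐ[q.ResidueField] (q.Fiber B) ⊗[q.ResidueField] (ResidueField O)).restrictScalars A).comp
      Algebra.TensorProduct.includeRight
  let o : O →ₐ[A] (q.Fiber B) ⊗[q.ResidueField] (ResidueField O) :=
    ((Algebra.TensorProduct.includeRight : (ResidueField O) →ₐ[q.ResidueField] (q.Fiber B) ⊗[q.ResidueField] (ResidueField O)).restrictScalars A).comp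
      (IsScalarTower.toAlgHom A O (ResidueField O))
  let ψ : O ⊗[A] B →ₐ[A] (q.Fiber B) ⊗[q.ResidueField] (ResidueField O) := Algebra.TensorProduct.lift o ι fun a b => mul_comm (o a) (ι b)
  have hψ : ∀ z, ρ' (ψ z) = algebraMap (O ⊗[A] B) κP z := by
    intro z
    induction z using TensorProduct.induction_on with
    | zero => simp
    | tmul a b =>
      rw [show ψ (a ⊗ₜ b) = o a * ι b from Algebra.TensorProduct.lift_tmul _ _ _ a b, map_mul,
        show ρ' (o a) = u₁ a from ?_, show ρ' (ι b) = algebraMap (O ⊗[A] B) κP (1 ⊗ₜ b) from ?_,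
        show u₁ a = algebraMap (O ⊗[A] B) κP (a ⊗ₜ 1) from rfl, ← map_mul]
      · congr 1
        show (a ⊗ₜ[A] (1 : B)) * (1 ⊗ₜ b) = _
        rw [Algebra.TensorProduct.tmul_mul_tmul, mul_one, one_mul]
      · show ρ' (((1 : q.ResidueField) ⊗ₜ[A] b) ⊗ₜ[q.ResidueField] (1 : (ResidueField O))) = _
        rw [Algebra.TensorProduct.lift_tmul, map_one, mul_one, Algebra.TensorProduct.lift_tmul, map_one, one_mul]
        rfl
      · show ρ' ((1 : (q.Fiber B)) ⊗ₜ[q.ResidueField] residue O a) = _
        rw [Algebra.TensorProduct.lift_tmul, map_one, one_mul]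
        rfl
    | add a b ha hb => rw [map_add, map_add, ha, hb, map_add]
  have hψs : Function.Surjective ψ := by
    intro w
    induction w using TensorProduct.induction_on with
    | zero => exact ⟨0, map_zero _⟩
    | tmul c t =>
      induction c using TensorProduct.induction_on with
      | zero => exact ⟨0, by rw [map_zero, TensorProduct.zero_tmul]⟩
      | tmul a b =>
        obtain ⟨r, hr⟩ := residue_surjective (R := O) (v a * t)
        refine ⟨r ⊗ₜ b, ?_⟩
        rw [show ψ (r ⊗ₜ b) = o r * ι b from Algebra.TensorProduct.lift_tmul _ _ _ r b]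
        show ((1 : (q.Fiber B)) ⊗ₜ[q.ResidueField] residue O r) * (((1 : q.ResidueField) ⊗ₜ[A] b) ⊗ₜ[q.ResidueField] (1 : (ResidueField O))) = _
        rw [Algebra.TensorProduct.tmul_mul_tmul, one_mul, mul_one, hr,
          show v a * t = a • t from rfl, TensorProduct.tmul_smul, TensorProduct.smul_tmul', TensorProduct.smul_tmul',
          smul_eq_mul, mul_one]
      | add c c' hc hc' =>
        obtain ⟨z, hz⟩ := hc; obtain ⟨z', hz'⟩ := hc'
        exact ⟨z + z', by rw [map_add, hz, hz', TensorProduct.add_tmul]⟩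
    | add a b ha hb =>
      obtain ⟨z, rfl⟩ := ha; obtain ⟨z', rfl⟩ := hb
      exact ⟨z + z', map_add _ _ _⟩
  haveI : IsNoetherianRing (q.Fiber B) := Algebra.FiniteType.isNoetherianRing q.ResidueField _
  haveI : IsNoetherianRing ((q.Fiber B) ⊗[q.ResidueField] (ResidueField O)) := by
    haveI : IsNoetherianRing ((ResidueField O) ⊗[q.ResidueField] (q.Fiber B)) := Algebra.FiniteType.isNoetherianRing (ResidueField O) ((ResidueField O) ⊗[q.ResidueField] (q.Fiber B))
    exact isNoetherianRing_of_ringEquiv _ (Algebra.TensorProduct.comm q.ResidueField (ResidueField O) (q.Fiber B)).toRingEquiv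
  let P' : Ideal ((q.Fiber B) ⊗[q.ResidueField] (ResidueField O)) := RingHom.ker ρ'
  haveI : P'.IsPrime := RingHom.ker_isPrime _
  let R : PrimeSpectrum (q.Fiber B) := ⟨P'.comap (algebraMap (q.Fiber B) ((q.Fiber B) ⊗[q.ResidueField] (ResidueField O))), inferInstance⟩
  have hP' : P'.comap ψ = P := by
    ext z
    rw [Ideal.mem_comap, RingHom.mem_ker, hψ, Ideal.algebraMap_residueField_eq_zero]
  refine ⟨R, ?_⟩
  obtain ⟨l₀, hl₀, hlen⟩ := Ideal.exists_ltSeries_length_eq_height (R := (q.Fiber B) ⊗[q.ResidueField] (ResidueField O)) P'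
  haveI : P'.LiesOver R.asIdeal := ⟨rfl⟩
  haveI : Module.Flat (q.Fiber B) ((q.Fiber B) ⊗[q.ResidueField] (ResidueField O)) := Module.Flat.baseChange _ _ _
  haveI := Algebra.HasGoingDown.of_flat (R := (q.Fiber B)) (S := (q.Fiber B) ⊗[q.ResidueField] (ResidueField O))
  have hh := Ideal.height_eq_height_add_of_liesOver_of_hasGoingDown (R := (q.Fiber B)) (S := (q.Fiber B) ⊗[q.ResidueField] (ResidueField O)) R.asIdeal P'
  let l := l₀.map (PrimeSpectrum.comap ψ.toRingHom) (RingHom.strictMono_comap_of_surjective hψs)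
  have hlast : l.last.asIdeal = P := by
    rw [LTSeries.last_map, PrimeSpectrum.comap_asIdeal, hl₀]
    exact hP'
  refine ⟨l, ?_, hlast, ?_, ?_⟩
  · ext b
    rw [← hP']
    show _ ∈ P' ↔ ψ (Algebra.TensorProduct.includeRight b) ∈ P'
    rw [show ψ (Algebra.TensorProduct.includeRight b) = ι b from by
        show ψ ((1 : O) ⊗ₜ b) = _
        rw [Algebra.TensorProduct.lift_tmul, map_one, one_mul]]
    rfl
  · refine le_antisymm (le_maximalIdeal (Ideal.IsPrime.ne_top inferInstance)) fun a ha => ?_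
    show ψ (a ⊗ₜ (1 : B)) ∈ l₀.head.asIdeal
    rw [Algebra.TensorProduct.lift_tmul, map_one, mul_one]
    show (1 : (q.Fiber B)) ⊗ₜ[q.ResidueField] residue O a ∈ l₀.head.asIdeal
    rw [(residue_eq_zero_iff a).2 ha, TensorProduct.tmul_zero]
    exact zero_mem _
  · show R.asIdeal.height ≤ (l₀.length : ℕ∞)
    rw [hlen, hh]
    exact le_self_add

end Fibre

end Groth.Agent.H15Site.UnivOpen
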