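import Groth.Agent.H15Site.UnivOpen.Algebra
import Groth.Agent.H11Val.Point
import Groth.Agent.H7Flat.EtaleLocQF
import Mathlib.AlgebraicGeometry.Morphisms.UniversallyOpen

/-!
# Quasi-sections of universally open morphisms, étale locally on the base
-/

set_option autoImplicit false
set_option linter.style.haveILetI false
set_option linter.unusedSectionVars false
set_option backward.isDefEq.respectTransparency false
set_option backward.isDefEq.respectTransparency.types false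

universe u

open CategoryTheory CategoryTheory.Limits AlgebraicGeometry TensorProduct

namespace Groth.Agent.H15Site.UnivOpen

/-- A closed set containing all generizations of a point of a locally noetherian scheme is a neighbourhood. -/
theorem mem_interior_of_forall_generization {V : Scheme.{u}} [IsLocallyNoetherian V] (Z : Set V)
    (hZ : IsClosed Z) (v : V) (h : ∀ v' : V, v' ⤳ v → v' ∈ Z) : v ∈ interior Z := by
  classical
  obtain ⟨_, ⟨W, hW, rfl⟩, hvW, -⟩ := V.isBasis_affineOpens.exists_subset_of_mem_open (Set.mem_univ v) isOpen_univ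
  haveI : IsNoetherianRing Γ(V, W) := IsLocallyNoetherian.component_noetherian ⟨W, hW⟩
  let ι : PrimeSpectrum Γ(V, W) → V := hW.fromSpec
  let p := hW.primeIdealOf ⟨v, hvW⟩
  have hιp : ι p = v := hW.fromSpec_primeIdealOf ⟨v, hvW⟩
  obtain ⟨a, ha⟩ := (PrimeSpectrum.isClosed_iff_zeroLocus _).1 (hZ.preimage hW.fromSpec.continuous)
  have hle : ∀ q : PrimeSpectrum Γ(V, W), q.asIdeal ≤ p.asIdeal → (a : Set Γ(V, W)) ⊆ q.asIdeal := fun q hq => by
    have hq' : ι q ∈ Z := h _ (hιp ▸ ((PrimeSpectrum.le_iff_specializes q p).1 hq).map hW.fromSpec.continuous)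
    have : q ∈ hW.fromSpec ⁻¹' Z := hq'
    rwa [ha] at this
  have hfin := minimalPrimes.finite_of_isNoetherianRing (R := Γ(V, W))
  let M := hfin.toFinset.filter fun q => ¬ q ≤ p.asIdeal
  have hex : ∀ q ∈ M, ∃ b ∈ q, b ∉ p.asIdeal := fun q hq => Set.not_subset.1 (Finset.mem_filter.1 hq).2
  choose b hb hbp using hex
  let e := ∏ q ∈ M.attach, b q.1 q.2
  have hep : e ∉ p.asIdeal := fun hh => by
    obtain ⟨q, -, hq⟩ := (Ideal.IsPrime.prod_mem_iff (p := p.asIdeal)).1 hh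
    exact hbp q.1 q.2 hq
  refine mem_interior.2 ⟨hW.fromSpec '' (PrimeSpectrum.basicOpen e : Set (PrimeSpectrum Γ(V, W))), ?_,
    hW.fromSpec.isOpenEmbedding.isOpenMap _ (PrimeSpectrum.basicOpen e).2, ⟨p, hep, hιp⟩⟩
  rintro _ ⟨q, hq, rfl⟩
  show q ∈ hW.fromSpec ⁻¹' Z
  rw [ha]
  obtain ⟨m, hm, hmq⟩ := Ideal.exists_minimalPrimes_le (I := (⊥ : Ideal Γ(V, W))) (J := q.asIdeal) bot_le
  haveI := hm.1.1
  refine Set.Subset.trans ?_ (SetLike.coe_subset_coe.2 hmq)
  by_cases hmp : m ≤ p.asIdeal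
  · exact hle ⟨m, inferInstance⟩ hmp
  · exfalso
    have hmM : m ∈ M := Finset.mem_filter.2 ⟨hfin.mem_toFinset.2 hm, hmp⟩
    exact hq (hmq (Ideal.prod_mem m (Finset.mem_attach M ⟨m, hmM⟩) (hb m hmM)))

variable {X Y : Scheme.{u}} (f : X ⟶ Y) [UniversallyOpen f] [LocallyOfFinitePresentation f] [Surjective f]
  [IsLocallyNoetherian Y]

/-- An affine scheme with a morphism to `X` whose finitely many equations cut out a quasi-section through a
point over `y`, with generizations lifting along every base change by a discrete valuation ring. -/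
theorem exists_liftingSection (y : Y) :
    ∃ (Z : Scheme.{u}) (h : Z ⟶ X) (z : Z), LocallyOfFiniteType (h ≫ f) ∧ IsSeparated (h ≫ f) ∧
      (h ≫ f).QuasiFiniteAt z ∧ (h ≫ f) z = y ∧
      ∀ {V : Scheme.{u}} [IsLocallyNoetherian V] (e : V ⟶ Y) (w : ↑(pullback (h ≫ f) e)),
        pullback.fst (h ≫ f) e w = z → ∀ v' : V, v' ⤳ pullback.snd (h ≫ f) e w →
          ∃ w' : ↑(pullback (h ≫ f) e), pullback.snd (h ≫ f) e w' = v' ∧ w' ⤳ w := by
  classical
  obtain ⟨x₀, hx₀⟩ := f.surjective y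
  obtain ⟨_, ⟨W, hW, rfl⟩, hyW, -⟩ := Y.isBasis_affineOpens.exists_subset_of_mem_open (Set.mem_univ y) isOpen_univ
  obtain ⟨_, ⟨U, hU, rfl⟩, hxU, hle : U ≤ f ⁻¹ᵁ W⟩ :=
    X.isBasis_affineOpens.exists_subset_of_mem_open (show x₀ ∈ f ⁻¹ᵁ W from show f x₀ ∈ W from hx₀.symm ▸ hyW)
      (f ⁻¹ᵁ W).2
  haveI : IsNoetherianRing Γ(Y, W) := IsLocallyNoetherian.component_noetherian ⟨W, hW⟩
  haveI : IsOpenImmersion hW.fromSpec := hW.isOpenImmersion_fromSpec
  haveI : IsOpenImmersion hU.fromSpec := hU.isOpenImmersion_fromSpec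
  have hft : (f.appLE W U hle).hom.FiniteType := f.finiteType_appLE hW hU hle
  algebraize [(f.appLE W U hle).hom]
  let A := Γ(Y, W)
  let B := Γ(X, U)
  let φ := Spec.map (CommRingCat.ofHom (algebraMap A B))
  have wφ : φ ≫ hW.fromSpec = hU.fromSpec ≫ f := IsAffineOpen.SpecMap_appLE_fromSpec f hW hU hle
  haveI : UniversallyOpen φ := by
    haveI : UniversallyOpen (hU.fromSpec ≫ f) := inferInstance
    refine MorphismProperty.of_isPullback (P := @UniversallyOpen) (f := hW.fromSpec) (g := hU.fromSpec ≫ f)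
      (f' := 𝟙 _) (g' := φ) ?_ inferInstance
    exact ⟨⟨by rw [Category.id_comp, wφ]⟩, ⟨PullbackCone.IsLimit.mk _ (fun s => s.fst)
      (fun s => Category.comp_id _) (fun s => by
        rw [← cancel_mono hW.fromSpec, Category.assoc, wφ]; exact s.condition)
      (fun s m h1 _ => (Category.comp_id m).symm.trans h1)⟩⟩
  -- a point maximal in its fibre
  let p₀ := hU.primeIdealOf ⟨x₀, hxU⟩
  let q := p₀.asIdeal.comap (algebraMap A B)
  let eF := PrimeSpectrum.primesOverOrderIsoFiber A B q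
  obtain ⟨m, hm, hp₀m⟩ := Ideal.exists_le_maximal (eF ⟨p₀.asIdeal, inferInstance, ⟨rfl⟩⟩).asIdeal
    (Ideal.IsPrime.ne_top inferInstance)
  let Pq := eF.symm ⟨m, hm.isPrime⟩
  let P : Ideal B := Pq.1
  haveI : P.IsPrime := Pq.2.1
  have hPq : P.comap (algebraMap A B) = q := Pq.2.2.over.symm
  have hPmax : ∀ Q : Ideal B, Q.IsPrime → Q.comap (algebraMap A B) = P.comap (algebraMap A B) → P ≤ Q → Q = P := by
    intro Q hQ hQq hPQ
    let Qq : q.primesOver B := ⟨Q, hQ, ⟨(hQq.trans hPq).symm⟩⟩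
    have h1 : (⟨m, hm.isPrime⟩ : PrimeSpectrum (q.Fiber B)) ≤ eF Qq := by
      rw [← eF.apply_symm_apply ⟨m, hm.isPrime⟩]
      exact eF.monotone (show Pq ≤ Qq from hPQ)
    have h2 : eF Qq = ⟨m, hm.isPrime⟩ :=
      PrimeSpectrum.ext (hm.eq_of_le (Ideal.IsPrime.ne_top inferInstance) h1).symm
    exact congrArg Subtype.val ((eF.symm_apply_apply Qq).symm.trans (congrArg eF.symm h2))
  obtain ⟨s, b, hsP, hbP, hiso, hht⟩ := exists_parameters A B P hPmax
  let B₀ := B ⧸ Ideal.span (s : Set B)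
  let mk₀ : B →ₐ[A] B₀ := Ideal.Quotient.mkₐ A _
  have hmk₀ : Function.Surjective mk₀ := Ideal.Quotient.mkₐ_surjective A _
  have hker₀ : RingHom.ker mk₀.toRingHom = Ideal.span (s : Set B) := Ideal.mk_ker
  let P₀ : Ideal B₀ := P.map mk₀
  haveI hP₀p : P₀.IsPrime := Ideal.isPrime_map_quotientMk_of_isPrime (Ideal.span_le.2 hsP)
  have hP₀ : P₀.comap mk₀ = P := by
    show (P.map (Ideal.Quotient.mk _)).comap (Ideal.Quotient.mk _) = P
    rw [Ideal.comap_map_of_surjective _ Ideal.Quotient.mk_surjective, ← RingHom.ker_eq_comap_bot, Ideal.mk_ker]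
    exact sup_eq_left.2 (Ideal.span_le.2 hsP)
  let Z := Spec (CommRingCat.of B₀)
  let g₀ := Spec.map (CommRingCat.ofHom (algebraMap A B₀))
  let h : Z ⟶ X := Spec.map (CommRingCat.ofHom mk₀.toRingHom) ≫ hU.fromSpec
  have hg : h ≫ f = g₀ ≫ hW.fromSpec := by
    show (Spec.map _ ≫ hU.fromSpec) ≫ f = _
    rw [Category.assoc, ← wφ, ← Category.assoc, ← Spec.map_comp]
    rfl
  let z : Z := ⟨P₀, hP₀p⟩
  have hqy : (h ≫ f) z = y := by
    rw [hg, Scheme.Hom.comp_apply]
    have e1 : g₀ z = φ p₀ := PrimeSpectrum.ext (by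
      show P₀.comap (algebraMap A B₀) = p₀.asIdeal.comap (algebraMap A B)
      have e2 : P₀.comap (algebraMap A B₀) = (P₀.comap mk₀).comap (algebraMap A B) :=
        (Ideal.comap_comap (I := P₀) (algebraMap A B) mk₀.toRingHom).symm
      rw [e2, hP₀]
      exact hPq)
    rw [e1, ← Scheme.Hom.comp_apply, wφ, Scheme.Hom.comp_apply]
    exact (congrArg f (hU.fromSpec_primeIdealOf ⟨x₀, hxU⟩)).trans hx₀
  haveI : LocallyOfFiniteType g₀ := (HasRingHomProperty.Spec_iff (P := @LocallyOfFiniteType)).mpr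
    (RingHom.finiteType_algebraMap.mpr (Algebra.FiniteType.of_surjective mk₀ hmk₀))
  haveI hloft : LocallyOfFiniteType (h ≫ f) := hg ▸ inferInstanceAs (LocallyOfFiniteType (g₀ ≫ hW.fromSpec))
  have hsep : IsSeparated (h ≫ f) := hg ▸ inferInstanceAs (IsSeparated (g₀ ≫ hW.fromSpec))
  haveI : Algebra.FiniteType A B₀ := Algebra.FiniteType.of_surjective mk₀ hmk₀
  have hfib : ∀ Q : Ideal B₀, Q.IsPrime → Q.comap (algebraMap A B₀) = P₀.comap (algebraMap A B₀) →
      mk₀ b ∉ Q → Q = P₀ := fun Q hQ hQq hbQ => by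
    haveI := hQ
    have h1 : Q.comap mk₀ = P := by
      refine hiso _ inferInstance ?_ (fun c hc => ?_) hbQ
      · have e := hQq
        have e1 : ∀ J : Ideal B₀, J.comap (algebraMap A B₀) = (J.comap mk₀).comap (algebraMap A B) := fun J =>
          (Ideal.comap_comap (I := J) (algebraMap A B) mk₀.toRingHom).symm
        rw [e1, e1, hP₀] at e
        exact e
      · show mk₀ c ∈ Q
        rw [show mk₀ c = 0 from (RingHom.mem_ker (f := mk₀.toRingHom)).1 (hker₀.symm ▸ Ideal.subset_span hc)]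
        exact Q.zero_mem
    exact Ideal.comap_injective_of_surjective mk₀.toRingHom hmk₀ (h1.trans hP₀.symm)
  haveI hqfA : Algebra.QuasiFiniteAt A P₀ := by
    refine Algebra.QuasiFiniteAt.of_isOpen_singleton_fiber (⟨P₀, hP₀p⟩ : PrimeSpectrum B₀) ?_
    refine isOpen_induced_iff.2 ⟨PrimeSpectrum.basicOpen (mk₀ b), (PrimeSpectrum.basicOpen _).2, ?_⟩
    ext ⟨Q, hQ⟩
    refine ⟨fun hQb => Subtype.ext (PrimeSpectrum.ext (hfib _ Q.2 (congrArg PrimeSpectrum.asIdeal hQ) hQb)), ?_⟩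
    intro hQ'
    obtain rfl : Q = ⟨P₀, hP₀p⟩ := congrArg Subtype.val (Set.mem_singleton_iff.1 hQ')
    show mk₀ b ∉ P₀
    rw [← Ideal.mem_comap, hP₀]
    exact hbP
  have hqf : (h ≫ f).QuasiFiniteAt z := by
    have h0 : g₀.QuasiFiniteAt z := by
      rw [Scheme.Hom.quasiFiniteAt_iff_isOpen_singleton_asFiber, ← (g₀.fiberHomeo (g₀ z)).isOpen_image]
      simp only [Set.image_singleton, Scheme.Hom.asFiber, Homeomorph.apply_symm_apply]
      exact (Algebra.quasiFiniteAt_iff_isOpen_singleton_fiber (⟨P₀, hP₀p⟩ : PrimeSpectrum B₀)).1 hqfA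
    rw [hg, Scheme.Hom.quasiFiniteAt_iff, ← Category.assoc]
    haveI := (Scheme.Hom.quasiFiniteAt_iff).1 h0
    infer_instance
  refine ⟨Z, h, z, hloft, hsep, hqf, hqy, ?_⟩
  intro V _ e w hw v' hv'
  by_cases hne : v' = pullback.snd (h ≫ f) e w
  · exact ⟨w, hne.symm, specializes_rfl⟩
  obtain ⟨O, k, hO, hkc, hkgen⟩ :=
    H11Val.exists_dvr_hom_through (𝟙 V) v' (pullback.snd (h ≫ f) e w) hv' (fun h' => hne h'.symm)
  haveI := hO
  have hrange : Set.range (k ≫ e) ⊆ Set.range hW.fromSpec := by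
    rintro _ ⟨r, rfl⟩
    rw [hW.range_fromSpec]
    refine ((IsLocalRing.specializes_closedPoint r).map (k ≫ e).continuous).mem_open W.2 ?_
    rw [Scheme.Hom.comp_apply, hkc, ← Scheme.Hom.comp_apply, ← pullback.condition, Scheme.Hom.comp_apply, hw, hqy]
    exact hyW
  let a := IsOpenImmersion.lift hW.fromSpec (k ≫ e) hrange
  obtain ⟨α, hα⟩ : ∃ α, Spec.map α = a := Spec.map_surjective a
  letI : Algebra A O := α.hom.toAlgebra
  have hae : Spec.map (CommRingCat.ofHom (algebraMap A O)) ≫ hW.fromSpec = k ≫ e := by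
    rw [show CommRingCat.ofHom (algebraMap A O) = α from rfl, hα, IsOpenImmersion.lift_fac]
  -- the point over the closed point
  obtain ⟨w₁, hw₁, hw₁'⟩ := Scheme.Pullback.exists_preimage_pullback (f := pullback.snd (h ≫ f) e) (g := k) w
    (IsLocalRing.closedPoint O) hkc.symm
  let S₀ := O ⊗[A] B₀
  let i₁ : Spec (CommRingCat.of S₀) ⟶ Z :=
    Spec.map (CommRingCat.ofHom (Algebra.TensorProduct.includeRight : B₀ →ₐ[A] S₀).toRingHom)
  let i₂ : Spec (CommRingCat.of S₀) ⟶ Spec (CommRingCat.of O) :=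
    Spec.map (CommRingCat.ofHom (algebraMap O S₀))
  have hsq : i₁ ≫ g₀ = i₂ ≫ Spec.map (CommRingCat.ofHom (algebraMap A O)) := by
    rw [← Spec.map_comp, ← Spec.map_comp]
    congr 1
    ext a'
    show (1 : O) ⊗ₜ[A] algebraMap A B₀ a' = algebraMap A O a' ⊗ₜ[A] (1 : B₀)
    rw [Algebra.algebraMap_eq_smul_one, Algebra.algebraMap_eq_smul_one, TensorProduct.tmul_smul,
      TensorProduct.smul_tmul']
  let m₂ : Spec (CommRingCat.of S₀) ⟶ pullback (h ≫ f) e := pullback.lift i₁ (i₂ ≫ k) (by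
    rw [hg, ← Category.assoc, hsq, Category.assoc, hae, Category.assoc])
  let T := pullback (pullback.snd (h ≫ f) e) k
  let t₁ : T ⟶ Z := pullback.fst _ k ≫ pullback.fst (h ≫ f) e
  let t₂ : T ⟶ Spec (CommRingCat.of O) := pullback.snd _ k
  have ht : t₂ ≫ Spec.map (CommRingCat.ofHom (algebraMap A O)) = t₁ ≫ g₀ := by
    rw [← cancel_mono hW.fromSpec, Category.assoc, Category.assoc, hae, ← hg]
    simp only [t₁, t₂, Category.assoc]
    rw [← pullback.condition_assoc, pullback.condition]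
  let c : T ⟶ Spec (CommRingCat.of S₀) := pullback.lift t₂ t₁ ht ≫ (pullbackSpecIso A O B₀).hom
  have hc1 : c ≫ i₁ = t₁ := by
    show (_ ≫ (pullbackSpecIso A O B₀).hom) ≫ i₁ = _
    rw [Category.assoc]
    erw [pullbackSpecIso_hom_snd]
    exact pullback.lift_snd _ _ _
  have hc2 : c ≫ i₂ = t₂ := by
    show (_ ≫ (pullbackSpecIso A O B₀).hom) ≫ i₂ = _
    rw [Category.assoc]
    erw [pullbackSpecIso_hom_fst]
    exact pullback.lift_fst _ _ _
  have hcm : c ≫ m₂ = pullback.fst _ k := by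
    refine pullback.hom_ext ?_ ?_
    · rw [Category.assoc, pullback.lift_fst, hc1]
    · rw [Category.assoc, pullback.lift_snd, ← Category.assoc, hc2, ← pullback.condition]
  let r : PrimeSpectrum S₀ := c w₁
  have hrw : m₂ r = w := by
    show m₂ (c w₁) = w
    rw [← Scheme.Hom.comp_apply, hcm, hw₁]
  have hrc : r.asIdeal.comap (algebraMap O S₀) = IsLocalRing.maximalIdeal O := by
    have h1 : i₂ (c w₁) = IsLocalRing.closedPoint O := by rw [← Scheme.Hom.comp_apply, hc2, hw₁']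
    exact congrArg PrimeSpectrum.asIdeal h1
  have hr₀ : r.asIdeal.comap (Algebra.TensorProduct.includeRight : B₀ →ₐ[A] S₀) = P₀ := by
    have h1 : i₁ (c w₁) = z := by rw [← Scheme.Hom.comp_apply, hc1, Scheme.Hom.comp_apply, hw₁, hw]
    exact congrArg PrimeSpectrum.asIdeal h1
  -- the ambient ring
  let S₁ := O ⊗[A] B
  haveI : IsNoetherianRing S₁ := Algebra.FiniteType.isNoetherianRing O S₁
  let ψ : S₁ →ₐ[A] S₀ := Algebra.TensorProduct.map (AlgHom.id A O) mk₀
  have hψ : Function.Surjective ψ := TensorProduct.map_surjective Function.surjective_id hmk₀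
  have hψker : RingHom.ker ψ.toRingHom =
      Ideal.map (Algebra.TensorProduct.includeRight : B →ₐ[A] S₁) (Ideal.span (s : Set B)) := by
    exact (Algebra.TensorProduct.lTensor_ker mk₀ hmk₀).trans (congrArg (Ideal.map _) hker₀)
  let P' : Ideal S₁ := r.asIdeal.comap ψ
  have hψB : ∀ c : B, ψ ((1 : O) ⊗ₜ c) = (1 : O) ⊗ₜ mk₀ c := fun c => Algebra.TensorProduct.map_tmul _ _ _ _
  have hψO : ∀ o : O, ψ (algebraMap O S₁ o) = algebraMap O S₀ o := fun o => by
    show ψ (o ⊗ₜ (1 : B)) = o ⊗ₜ (1 : B₀)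
    rw [Algebra.TensorProduct.map_tmul, map_one]
    rfl
  have hP'c : P'.comap (algebraMap O S₁) = IsLocalRing.maximalIdeal O := by
    rw [← hrc]
    ext o
    show ψ (algebraMap O S₁ o) ∈ r.asIdeal ↔ _
    rw [hψO]
    rfl
  have hP'B : P'.comap (Algebra.TensorProduct.includeRight : B →ₐ[A] S₁) = P := by
    rw [← hP₀, ← hr₀]
    ext c
    show ψ ((1 : O) ⊗ₜ c) ∈ r.asIdeal ↔ _
    rw [hψB]
    rfl
  have hPqq : (IsLocalRing.maximalIdeal O).comap (algebraMap A O) = P.comap (algebraMap A B) := by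
    rw [← hP'c, ← hP'B]
    ext a'
    show algebraMap O S₁ (algebraMap A O a') ∈ P' ↔
      (Algebra.TensorProduct.includeRight : B →ₐ[A] S₁) (algebraMap A B a') ∈ P'
    rw [AlgHom.commutes, ← IsScalarTower.algebraMap_apply A O S₁]
  obtain ⟨R, l, hR, hl, hlc, hlen⟩ := exists_chain A B (P.comap (algebraMap A B)) hPqq P' hP'c
  let s' := s.image fun c => (1 : O) ⊗ₜ[A] c
  have hs' : (s' : Set S₁) = (Algebra.TensorProduct.includeRight : B →ₐ[A] S₁) '' s := Finset.coe_image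
  have hd : s'.card ≤ l.length := by
    have h1 := ((hht R (hR.trans hP'B)).trans hlen)
    exact Finset.card_image_le.trans (by exact_mod_cast h1)
  have hkerle : ∀ Q : Ideal S₁, (s' : Set S₁) ⊆ Q → RingHom.ker ψ.toRingHom ≤ Q := fun Q hQ => by
    rw [hψker, Ideal.map_span, Ideal.span_le]
    exact hs' ▸ hQ
  have hs'P : (s' : Set S₁) ⊆ (P' : Set S₁) := by
    rw [hs']
    rintro _ ⟨c, hc, rfl⟩
    show c ∈ P'.comap (Algebra.TensorProduct.includeRight : B →ₐ[A] S₁)
    rw [hP'B]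
    exact hsP hc
  haveI : Algebra.QuasiFiniteAt O r.asIdeal := Algebra.QuasiFiniteAt.baseChange P₀ r.asIdeal hr₀.symm
  have hback : ∀ Q : Ideal S₁, (s' : Set S₁) ⊆ Q → (Q.map ψ.toRingHom).comap ψ.toRingHom = Q := fun Q hQ => by
    rw [Ideal.comap_map_of_surjective ψ.toRingHom hψ, ← RingHom.ker_eq_comap_bot]
    exact sup_eq_left.2 (hkerle Q hQ)
  have hmapO : ∀ Q : Ideal S₁, (s' : Set S₁) ⊆ Q →
      (Q.map ψ.toRingHom).comap (algebraMap O S₀) = Q.comap (algebraMap O S₁) := fun Q hQ => by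
    ext o
    rw [Ideal.mem_comap, Ideal.mem_comap, ← hψO]
    show _ ↔ algebraMap O S₁ o ∈ Q
    conv_rhs => rw [← hback Q hQ]
    rfl
  have hopen : IsOpenMap (PrimeSpectrum.comap (algebraMap O S₁)) := by
    have h1 : UniversallyOpen (Spec.map (CommRingCat.ofHom (algebraMap O S₁))) := by
      rw [← show (pullbackSpecIso A O B).inv ≫ pullback.fst _ _ = Spec.map (CommRingCat.ofHom (algebraMap O S₁)) from
        pullbackSpecIso_inv_fst ..]
      haveI : UniversallyOpen (pullback.fst (Spec.map (CommRingCat.ofHom (algebraMap A O))) φ) :=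
        MorphismProperty.pullback_fst (P := @UniversallyOpen) _ φ inferInstance
      infer_instance
    exact (Spec.map (CommRingCat.ofHom (algebraMap O S₁))).isOpenMap
  obtain ⟨Q, hQp, hQs, hQle, hQ0⟩ := exists_prime_over_generic hopen P' s' hs'P l hl hlc hd
    fun Q hQp hQs hQle hQc => by
      haveI := hQp
      haveI : (Q.map ψ.toRingHom).IsPrime := Ideal.map_isPrime_of_surjective hψ (hkerle Q hQs)
      have h1 : Q.map ψ.toRingHom ≤ r.asIdeal := Ideal.map_le_iff_le_comap.2 hQle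
      have h2 : Q.map ψ.toRingHom = r.asIdeal :=
        Algebra.QuasiFiniteAt.eq_of_le_of_under_eq h1 (((hmapO Q hQs).trans hQc).trans hrc.symm)
      rw [← hback Q hQs, h2]
      rfl
  haveI := hQp
  haveI : (Q.map ψ.toRingHom).IsPrime := Ideal.map_isPrime_of_surjective hψ (hkerle Q hQs)
  let Q₀ : Spec (CommRingCat.of S₀) := ⟨Q.map ψ.toRingHom, inferInstance⟩
  refine ⟨m₂ Q₀, ?_, ?_⟩
  · rw [← Scheme.Hom.comp_apply, pullback.lift_snd, Scheme.Hom.comp_apply]
    have h1 : i₂ Q₀ = (⟨⊥, Ideal.isPrime_bot⟩ : PrimeSpectrum O) := PrimeSpectrum.ext ((hmapO Q hQs).trans hQ0)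
    rw [h1]
    have e0 : Spec.map (CommRingCat.ofHom O.subtype) (IsLocalRing.closedPoint (V.residueField v')) =
        (⟨⊥, Ideal.isPrime_bot⟩ : PrimeSpectrum O) := by
      refine PrimeSpectrum.ext ?_
      show Ideal.comap O.subtype (IsLocalRing.maximalIdeal (V.residueField v')) = ⊥
      rw [IsLocalRing.maximalIdeal_eq_bot]
      exact Ideal.comap_bot_of_injective _ O.subtype_injective
    rw [← e0, ← Scheme.Hom.comp_apply, hkgen, Category.comp_id]
    exact Scheme.fromSpecResidueField_apply v' _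
  · have h1 : Q₀ ⤳ (r : Spec (CommRingCat.of S₀)) :=
      (PrimeSpectrum.le_iff_specializes (⟨Q.map ψ.toRingHom, inferInstance⟩ : PrimeSpectrum S₀) r).1
        (Ideal.map_le_iff_le_comap.2 hQle)
    exact hrw ▸ h1.map m₂.continuous

/-- **Quasi-sections of universally open morphisms.** -/
theorem exists_quasiSection (y : Y) :
    ∃ (V T : Scheme.{u}) (e : V ⟶ Y) (π : T ⟶ V) (h : T ⟶ X),
      Etale e ∧ y ∈ Set.range e.base ∧ IsFinite π ∧ Surjective π ∧ h ≫ f = π ≫ e := by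
  obtain ⟨Z, h, z, hloft, hsep, hqf, hzy, hlift⟩ := exists_liftingSection f y
  haveI := hloft
  obtain ⟨V, e, v, hn, W, w, hwW, hfin, hwv, -, hwz⟩ := H7Flat.exists_etaleNbhd_finite_part (h ≫ f) z hqf
  haveI := hn.etale
  haveI : IsLocallyNoetherian V := LocallyOfFiniteType.isLocallyNoetherian e
  haveI := hfin
  let π₁ := W.ι ≫ pullback.snd (h ≫ f) e
  have hcl : IsClosed (Set.range π₁) := π₁.isClosedMap.isClosed_range
  have hgen : ∀ v' : V, v' ⤳ v → v' ∈ Set.range π₁ := fun v' hv' => by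
    obtain ⟨w', hw', hsp⟩ := hlift e w hwz v' (hwv.symm ▸ hv')
    exact ⟨⟨w', hsp.mem_open W.2 hwW⟩, hw'⟩
  let V₁ : V.Opens := ⟨interior (Set.range π₁), isOpen_interior⟩
  refine ⟨V₁, (π₁ ⁻¹ᵁ V₁).toScheme, V₁.ι ≫ e, π₁ ∣_ V₁,
    (π₁ ⁻¹ᵁ V₁).ι ≫ W.ι ≫ pullback.fst (h ≫ f) e ≫ h, inferInstance,
    ⟨⟨v, mem_interior_of_forall_generization _ hcl v hgen⟩, ?_⟩, inferInstance, ⟨fun v₁ => ?_⟩, ?_⟩
  · show (V₁.ι ≫ e) ⟨v, _⟩ = y
    rw [Scheme.Hom.comp_apply]
    exact hn.base_eq.trans hzy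
  · obtain ⟨t, ht⟩ := interior_subset (s := Set.range π₁) v₁.2
    exact ⟨⟨t, show π₁ t ∈ V₁ from ht.symm ▸ v₁.2⟩,
      Subtype.ext ((congr($(morphismRestrict_ι π₁ V₁) ⟨t, _⟩)).trans ht)⟩
  · simp only [Category.assoc, morphismRestrict_ι_assoc, π₁]
    rw [pullback.condition]

end Groth.Agent.H15Site.UnivOpen
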